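import Groth.Agent.GenSeesawLib.Near
import Groth.Agent.GenSeesawLib.TwistBC
import Groth.Agent.GenSeesawLib.Glue
import Groth.Agent.AdicPicLib.Fibre
import Groth.Agent.ProjUPLib.Free
import Groth.Agent.FibIsoOpen.Basic
import Groth.Agent.PBundleLib.Twists
import Groth.Agent.S7676
import Groth.Agent.S11763

/-!
# Sections over the closed fibre of a proper flat scheme over a local ring, and lifting projective space
-/

set_option autoImplicit false
set_option backward.isDefEq.respectTransparency false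
set_option backward.isDefEq.respectTransparency.types false
set_option linter.style.haveILetI false
set_option maxHeartbeats 1600000

universe u

open CategoryTheory CategoryTheory.Limits AlgebraicGeometry TopologicalSpace Opposite
open Groth.Agent.PullbackMod Groth.Agent.ParaFLib Groth.Agent.AmpleLib Groth.Agent.ProjUPLib

noncomputable section

namespace Groth.Agent.PnLiftLib

variable {A : Type u} [CommRing A] [IsLocalRing A] [IsNoetherianRing A]

/-- An open of a local scheme containing the closed point is everything. -/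
theorem eq_top_of_closedPoint_mem (U : (Spec (CommRingCat.of A)).Opens)
    (h : IsLocalRing.closedPoint A ∈ U) : U = ⊤ :=
  top_le_iff.1 fun x _ => (IsLocalRing.specializes_closedPoint x).mem_open U.2 h

/-- An open containing the closed fibre of a proper morphism is everything. -/
theorem eq_top_of_fibre_le {X : Scheme.{u}} (f : X ⟶ Spec (CommRingCat.of A)) [IsProper f] (U : X.Opens)
    (h : ∀ x, f x = IsLocalRing.closedPoint A → x ∈ U) : U = ⊤ := by
  obtain ⟨V, hyV, hV⟩ := BCLib.exists_open_preimage_le f U (IsLocalRing.closedPoint A) h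
  rw [eq_top_of_closedPoint_mem V hyV] at hV
  exact top_le_iff.1 fun x _ => hV trivial

/-- Sections lift from the closed fibre when its `H¹` vanishes. -/
theorem surjective_pullSec {X : Scheme.{u}} (f : X ⟶ Spec (CommRingCat.of A)) [IsProper f]
    [LocallyOfFinitePresentation f] [Flat f] {L : X.Modules} (hL : PicF.IsInvertible L)
    (h1 : Subsingleton (CohIII.fiberH f L (IsLocalRing.closedPoint A) 1)) :
    Function.Surjective (ProjUP.pullSec (f.fiberι (IsLocalRing.closedPoint A)) L) := by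
  intro τ
  let S := Spec (CommRingCat.of A)
  let y : S := IsLocalRing.closedPoint A
  haveI : Coh.IsQCoh L := InvExt.isQCoh_of_isInvertible hL
  let M := (Scheme.Modules.pushforward f).obj L
  haveI : Coh.IsQCoh M := QCohLib.isQCoh_pushforward L f
  let g := S.fromSpecResidueField y
  let g' := f.fiberι y
  let f' := f.fiberToSpecResidueField y
  haveI := GenSeesawLib.isIso_bc0_fibre f (CurveLib.isFinLocFree_of_isInvertible hL) y h1
  let bc := CohBC.bc0 f g f' g' (f.fiber_fac y) L
  obtain ⟨x, hx⟩ := GenBCLib.surjective_top_of_epi bc (show Γ((Scheme.Modules.pushforward f').obj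
    ((Scheme.Modules.pullback g').obj L), ⊤) from τ)
  have hV : IsAffineOpen (⊤ : S.Opens) := isAffineOpen_top _
  have hyV : y ∈ (⊤ : S.Opens) := trivial
  let e := GenBCLib.le_preimage_fromSpecResidueField hyV
  obtain ⟨b, t, hb, ht⟩ := GenSeesawLib.exists_smul_eq_pullMap (M := M) hV hyV x
  have hbu : IsUnit b := by
    have h2 : g ⁻¹ᵁ S.basicOpen b = ⊤ := by
      have := Scheme.basicOpen_appLE g ⊤ ⊤ e b
      rw [Scheme.basicOpen_of_isUnit _ hb, top_inf_eq] at this
      exact this.symm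
    have h3 : y ∈ S.basicOpen b := by
      have : (default : Spec (S.residueField y)) ∈ g ⁻¹ᵁ S.basicOpen b := by rw [h2]; trivial
      have h4 : g (default : Spec (S.residueField y)) = y := Scheme.fromSpecResidueField_apply _ _
      rw [← h4]
      exact this
    have h5 := eq_top_of_closedPoint_mem _ h3
    exact S.toRingedSpace.isUnit_of_isUnit_germ _ _ fun z hz =>
      (S.mem_basicOpen b z hz).1 (by rw [h5]; trivial)
  obtain ⟨bi, hbi⟩ := hbu.exists_left_inv
  refine ⟨bi • t, ?_⟩
  have le : f' ⁻¹ᵁ ⊤ ≤ g' ⁻¹ᵁ (f ⁻¹ᵁ ⊤) := le_top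
  have key : pullMap g M e (bi • t) = x := by
    rw [pullMap_smul, ← ht, smul_smul, ← map_mul, hbi, map_one, one_smul]
  have h2 := congrArg (bc.app ⊤) key
  rw [GenBCLib.bc0_pullMap (f.fiber_fac y) L e le (bi • t), hx] at h2
  rw [pullSec_eq]
  exact h2


/-- Generation by sections is detected by their loci of generation. -/
theorem generatedBy_of_gl {X : Scheme.{u}} {L : X.Modules} (hL : PicF.IsInvertible L) {ι : Type*}
    {s : ι → ProjUP.Γm L} (h : ∀ x, ∃ i, x ∈ gl (s i)) : ProjUP.GeneratedBy L s := fun x => by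
  obtain ⟨i, hi⟩ := h x
  rw [eq_top_iff]
  intro m _
  obtain ⟨r, hr⟩ := ((mem_gl_iff hL).1 hi).2 m
  rw [← hr]
  exact Submodule.smul_mem _ _ (Submodule.subset_span ⟨i, rfl⟩)

theorem injective_pullSec_of_isIso {Y Z : Scheme.{u}} (ε : Z ⟶ Y) [IsIso ε] {M : Y.Modules}
    (hM : FlatMod.IsFinLocFree M) : Function.Injective (ProjUP.pullSec ε M) := by
  haveI := VecFrameLib.isIso_unit ε (fun U => ConcreteCategory.bijective_of_isIso (ε.app U)) hM
  exact (ConcreteCategory.bijective_of_isIso
    (((Scheme.Modules.pullbackPushforwardAdjunction ε).unit.app M).app ⊤)).1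

omit [IsLocalRing A] [IsNoetherianRing A] in
theorem hom_inv_app {X : Scheme.{u}} {M N : X.Modules} (t : M ≅ N) (v : ProjUP.Γm N) :
    t.hom.app ⊤ (t.inv.app ⊤ v) = v :=
  congr($(t.inv_hom_id).app ⊤ v)

omit [IsLocalRing A] [IsNoetherianRing A] in
theorem gl_inv {X : Scheme.{u}} {M N : X.Modules} (t : M ≅ N) (v : ProjUP.Γm N) :
    gl (t.inv.app ⊤ v) = gl v :=
  gl_iso t.symm v

omit [IsLocalRing A] [IsNoetherianRing A] in
/-- An isomorphism over the whole of the target is an isomorphism. -/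
theorem isIso_of_restrict_top {X Y : Scheme.{u}} (φ : X ⟶ Y) (h : IsIso (φ ∣_ (⊤ : Y.Opens))) : IsIso φ := by
  have hr := morphismRestrict_ι φ (⊤ : Y.Opens)
  haveI := h
  haveI : IsIso ((φ ⁻¹ᵁ (⊤ : Y.Opens)).ι ≫ φ) := by rw [← hr]; exact IsIso.comp_isIso' h (Scheme.topIso Y).isIso_hom
  haveI : IsIso (φ ⁻¹ᵁ (⊤ : Y.Opens)).ι := (Scheme.topIso X).isIso_hom
  exact IsIso.of_isIso_comp_left (φ ⁻¹ᵁ (⊤ : Y.Opens)).ι φ

/-- A morphism of proper flat schemes which is an isomorphism on the closed fibre. -/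
theorem isIso_of_closedFibre {X Y P : Scheme.{u}} (φ : X ⟶ Y) (h : Y ⟶ Spec (CommRingCat.of A))
    [IsProper (φ ≫ h)] [Flat (φ ≫ h)] [IsProper h] (e' : (φ ≫ h).fiber (IsLocalRing.closedPoint A) ≅ P) (bc : P ⟶ Y)
    {t : P ⟶ Spec (CommRingCat.of (IsLocalRing.ResidueField A))}
    (hp : IsPullback bc t h (Spec.map (CommRingCat.ofHom (IsLocalRing.residue A))))
    (hc : (φ ≫ h).fiberι (IsLocalRing.closedPoint A) ≫ φ = e'.hom ≫ bc) : IsIso φ := by
  haveI : IsNoetherianRing (CommRingCat.of A) := ‹IsNoetherianRing A›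
  haveI : LocallyOfFinitePresentation (φ ≫ h) := inferInstance
  obtain ⟨eh, heh⟩ := AdicPicLib.exists_fibre_iso h
  haveI : IsIso (MoreMor.fiberMap φ h (IsLocalRing.closedPoint A)) := by
    have hw : (eh ≪≫ hp.isoPullback.symm).hom ≫ bc = h.fiberι (IsLocalRing.closedPoint A) := by
      rw [Iso.trans_hom, Category.assoc, Iso.symm_hom, IsPullback.isoPullback_inv_fst, heh]
    have : MoreMor.fiberMap φ h (IsLocalRing.closedPoint A) = e'.hom ≫ (eh ≪≫ hp.isoPullback.symm).inv := by
      rw [← cancel_mono (h.fiberι (IsLocalRing.closedPoint A)), FlatLocus.fiberMap_fiberι, Category.assoc, ← hw,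
        Iso.inv_hom_id_assoc]
      exact hc
    rw [this]
    infer_instance
  obtain ⟨U, hyU, hU⟩ := FibIsoOpen.exists_nhd φ h (IsLocalRing.closedPoint A)
  obtain rfl : U = ⊤ := eq_top_of_closedPoint_mem U hyU
  exact isIso_of_restrict_top φ hU

omit [IsLocalRing A] [IsNoetherianRing A] in
/-- A map to projective space is recognised on sections. -/
theorem comp_eq_of_sections {r : ℕ} {Z X : Scheme.{u}} (g : Z ⟶ X) (φ : X ⟶ CohB1.ProjSpace r A)
    (c : Z ⟶ CohB1.ProjSpace r A) (hb : (g ≫ φ) ≫ CohB1.ProjSpace.toSpec r A = c ≫ CohB1.ProjSpace.toSpec r A)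
    {L : X.Modules} (τ : (Scheme.Modules.pullback φ).obj (Twist.twistProjSpace r A 1) ≅ L)
    (τ₀ : (Scheme.Modules.pullback g).obj L ≅ (Scheme.Modules.pullback c).obj (Twist.twistProjSpace r A 1))
    (σ : Fin (r + 1) → ProjUP.Γm L)
    (hτ : ∀ i, τ.hom.app ⊤ (ProjUP.pullSec φ (Twist.twistProjSpace r A 1) (ProjUP.coord r A i)) = σ i)
    (hσ : ∀ i, ProjUP.pullSec g L (σ i) =
      τ₀.inv.app ⊤ (ProjUP.pullSec c (Twist.twistProjSpace r A 1) (ProjUP.coord r A i))) :
    g ≫ φ = c := by
  refine hom_ext_projSpace _ _ hb (((Scheme.Modules.pullbackComp g φ).app _).symm ≪≫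
    (Scheme.Modules.pullback g).mapIso τ ≪≫ τ₀) fun i => ?_
  have h1 := S7676.pullSec_comp_inv g φ _ (ProjUP.coord r A i)
  have h2 := S7676.pullSec_nat g τ.hom (ProjUP.pullSec φ (Twist.twistProjSpace r A 1) (ProjUP.coord r A i))
  rw [hτ, hσ] at h2
  simp only [Iso.trans_hom, Iso.symm_hom, Iso.app_inv, Functor.mapIso_hom, Scheme.Modules.Hom.comp_app,
    CategoryTheory.comp_apply]
  rw [h1]
  exact (congrArg (τ₀.hom.app ⊤) h2).trans (hom_inv_app τ₀ _)

variable [IsAdicComplete (IsLocalRing.maximalIdeal A) A]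

/-- A proper flat scheme over a complete local ring with closed fibre `ℙ^r` is `ℙ^r`. -/
theorem nonempty_iso_projSpace (r : ℕ) {X : Scheme.{u}}
    (f : X ⟶ Spec (CommRingCat.of A)) [IsProper f] [Flat f]
    (e₀ : pullback f (Spec.map (CommRingCat.ofHom (IsLocalRing.residue A))) ≅
      CohB1.ProjSpace r (IsLocalRing.ResidueField A))
    (he₀ : e₀.hom ≫ CohB1.ProjSpace.toSpec r (IsLocalRing.ResidueField A) = pullback.snd f _) :
    ∃ e : X ≅ CohB1.ProjSpace r A, e.hom ≫ CohB1.ProjSpace.toSpec r A = f := by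
  haveI : IsNoetherianRing (CommRingCat.of A) := ‹IsNoetherianRing A›
  haveI : LocallyOfFinitePresentation f := inferInstance
  let k := IsLocalRing.ResidueField A
  let S := Spec (CommRingCat.of A)
  let y : S := IsLocalRing.closedPoint A
  let g := f.fiberι y
  obtain ⟨e, he⟩ := AdicPicLib.exists_fibre_iso f
  let e' : f.fiber y ≅ CohB1.ProjSpace r k := e ≪≫ e₀
  let bc : CohB1.ProjSpace r k ⟶ CohB1.ProjSpace r A := GenSeesawLib.bcMap r A k
  let c := e'.hom ≫ bc
  let O1 := Twist.twistProjSpace r A 1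
  have hO1 : PicF.IsInvertible O1 :=
    isInvertible_twist_one (linForm_mem r A) (adjoin_range (isSymmetricAlgebra_linForm r A))
  -- the invertible module
  have h2 : Subsingleton (Coh.HH (pullback f (Spec.map (CommRingCat.ofHom (IsLocalRing.residue A))))
      (Coh.structureModule _) 2) := by
    refine GenSeesawLib.subsingleton_HH_structureModule_of_isIso e₀.inv 2 ?_
    haveI : IsIso (ProjCoh.unitToTwist (CohB1.polyGrading r k)) :=
      ParaFLib.isIso_of_locally_app _ fun x => ⟨⊤, trivial, fun O _ => ProjCoh.unitToTwist_bijective O⟩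
    refine CurveLib.subsingleton_HH_iso (asIso (ProjCoh.unitToTwist (CohB1.polyGrading r k))).symm 2 ?_
    exact ProjTwist.subsingleton_HH r k 0 2 (by omega) (by omega)
  obtain ⟨L, hL, ⟨φ₀⟩⟩ := (Groth.Agent.S11763.result A f h2)
    ((Scheme.Modules.pullback (e₀.hom ≫ bc)).obj O1) (isInvertible_pullback _ hO1)
  obtain ⟨τ₀⟩ : Nonempty ((Scheme.Modules.pullback g).obj L ≅ (Scheme.Modules.pullback c).obj O1) := ⟨
    (Scheme.Modules.pullbackCongr he.symm).app L ≪≫
      ((Scheme.Modules.pullbackComp e.hom (pullback.fst f _)).app L).symm ≪≫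
      (Scheme.Modules.pullback e.hom).mapIso φ₀ ≪≫ (Scheme.Modules.pullbackComp e.hom (e₀.hom ≫ bc)).app O1 ≪≫
      (Scheme.Modules.pullbackCongr (by simp [c, e'])).app O1⟩
  -- vanishing on the closed fibre
  have h1 : Subsingleton (CohIII.fiberH f L y 1) := by
    refine PBundleLib.subsingleton_HH_of_isIso e'.inv
      (CurveLib.isFinLocFree_of_isInvertible (isInvertible_pullback g hL)) 1 ?_
    obtain ⟨tw⟩ := GenSeesawLib.nonempty_iso_pullback_twistOne r A k
    refine CurveLib.subsingleton_HH_iso ((Scheme.Modules.pullback e'.inv).mapIso τ₀ ≪≫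
      (Scheme.Modules.pullbackComp e'.inv c).app O1 ≪≫
      (Scheme.Modules.pullbackCongr (by simp [c] : e'.inv ≫ c = bc)).app O1 ≪≫ tw.symm).symm 1 ?_
    exact ProjTwist.subsingleton_HH r k 1 1 (by omega) (by omega)
  -- lifting the coordinates
  have hs : ∀ i, ∃ s : ProjUP.Γm L, ProjUP.pullSec g L s =
      τ₀.inv.app ⊤ (ProjUP.pullSec c O1 (ProjUP.coord r A i)) := fun i => surjective_pullSec f hL h1 _
  choose σ hσ using hs
  have hgen : ProjUP.GeneratedBy L σ := by
    refine generatedBy_of_gl hL fun x => Opens.mem_iSup.1 ?_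
    have htop : (⨆ i, gl (σ i)) = ⊤ := eq_top_of_fibre_le f _ fun x hx => by
      obtain ⟨z, rfl⟩ : x ∈ Set.range g := by rw [f.range_fiberι]; exact hx
      obtain ⟨i, hi⟩ := exists_mem_gl hO1 (S7676.gen_coord_self (N := r) (R := A)) (c z)
      refine Opens.mem_iSup.2 ⟨i, ?_⟩
      show z ∈ g ⁻¹ᵁ gl (σ i)
      rw [← gl_pullSec g hL (σ i), hσ i, gl_inv τ₀, gl_pullSec c hO1]
      exact hi
    rw [htop]
    trivial
  obtain ⟨φ, hφ, τ, hτ⟩ := exists_hom_projSpace f hL σ hgen
  -- on the closed fibre it is the given map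
  have hb : (g ≫ φ) ≫ CohB1.ProjSpace.toSpec r A = c ≫ CohB1.ProjSpace.toSpec r A := by
    rw [Category.assoc, hφ]
    show g ≫ f = (e'.hom ≫ bc) ≫ _
    rw [Category.assoc, (GenSeesawLib.isPullback_bcMap r A k).w]
    show g ≫ f = (e.hom ≫ e₀.hom) ≫ CohB1.ProjSpace.toSpec r k ≫ Spec.map (CommRingCat.ofHom (IsLocalRing.residue A))
    rw [Category.assoc, reassoc_of% he₀, ← pullback.condition, reassoc_of% he]
  have hc : g ≫ φ = c := comp_eq_of_sections g φ c hb τ τ₀ σ hτ hσ
  -- the isomorphism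
  subst hφ
  haveI : IsIso φ := isIso_of_closedFibre φ (CohB1.ProjSpace.toSpec r A) e' _
    (GenSeesawLib.isPullback_bcMap r A k) hc
  exact ⟨asIso φ, rfl⟩

end Groth.Agent.PnLiftLib
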